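import Cfsg.Agent.ODD.Spor.Fin
import Cfsg.Agent.TAB.F24C.Main

/-!
# ODD: the sporadic row (helper86, task 278)
-/

set_option autoImplicit false

namespace Cfsg.Agent.ODD.Spor

open Cfsg

theorem sporIn : SporIn := sporIn_of TAB.F24C.in0

theorem boxO_spor : RowO fun S _ => IsSporadicGroup S := spor_of sporIn

end Cfsg.Agent.ODD.Spor
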