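import Cfsg.Agent.ODD.Cov.Fam
import Cfsg.Agent.H829.Sd.Tits
import Cfsg.Agent.H246.TitsComp

/-!
# ODD: the rows of the Tits group (helper86)

* `titsB : RowB IsoTits` : a Sylow `2`-subgroup `U` of `²F₄(2) = Aut T` has the quotient `U / V' ≅ ℤ / 4`, and the element
  `y₇ y₅` of `T` maps to a generator;
* `titsA_of` : the row `RowA IsoTits` from `QA` of the Tits group.
-/

set_option autoImplicit false

namespace Cfsg.Agent.ODD.Spor

open Cfsg Subgroup
open Cfsg.Agent.ChevalleyStructure.Tits.Data Cfsg.Agent.ChevalleyStructure.Tits.Sat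

section abs

variable {Γ : Type*} [Group Γ]

/-- transport to an arbitrary context -/
theorem qb_of_aut [Finite Γ] (N : Subgroup Γ) [N.Normal]
    (hb : Function.Bijective (MulAut.conjNormal : Γ →* MulAut N)) (U : Sylow 2 Γ) (f : (U : Subgroup Γ) →* ℂˣ) {x : Γ}
    (hU : x ∈ (U : Subgroup Γ)) (hN : x ∈ N) (hf : f ⟨x, hU⟩ ^ 2 ≠ 1) : QB N := by
  intro Q A c θ _ _ _ _
  have : Fact (Nat.Prime 2) := ⟨Nat.prime_two⟩
  let e : Γ ≃* MulAut N := MulEquiv.ofBijective _ hb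
  have he : ∀ z : N, e z = MulAut.conj z := fun z => by
    ext t
    rfl
  have h1 : IsPGroup 2 (A.comap (e : Γ →* MulAut N)) := c.isP.comap_of_injective _ e.injective
  obtain ⟨P, hP⟩ := h1.exists_le_sylow
  obtain ⟨g, hg⟩ := MulAction.exists_smul_eq Γ P U
  have hPU : ∀ z : Γ, z ∈ (P : Subgroup Γ) ↔ g * z * g⁻¹ ∈ (U : Subgroup Γ) := fun z => by
    rw [← hg, Sylow.coe_subgroup_smul, ← Subgroup.smul_mem_pointwise_smul_iff (a := MulAut.conj g)]
    rfl
  have hx' : g⁻¹ * x * g⁻¹⁻¹ ∈ N := Subgroup.Normal.conj_mem inferInstance x hN g⁻¹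
  have hxP : g⁻¹ * x * g⁻¹⁻¹ ∈ (P : Subgroup Γ) := by
    rw [hPU]
    have e1 : g * (g⁻¹ * x * g⁻¹⁻¹) * g⁻¹ = x := by group
    rwa [e1]
  have hQ : (P : Subgroup Γ).comap N.subtype = Q := by
    refine Q.is_maximal' (P.isPGroup'.comap_of_injective _ N.subtype_injective) fun q hq => hP ?_
    show e (q : Γ) ∈ A
    rw [he]
    exact c.inner q hq
  have hxQ : (⟨_, hx'⟩ : N) ∈ (Q : Subgroup N) := by
    rw [← hQ]
    exact hxP
  let φ : A →* Γ := (MulAut.conj g).toMonoidHom.comp ((e.symm : MulAut N →* Γ).comp A.subtype)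
  have hφ : ∀ a : A, φ a ∈ (U : Subgroup Γ) := fun a => (hPU (e.symm a)).1 (hP (by
    show e (e.symm a) ∈ A
    rw [e.apply_symm_apply]
    exact a.2))
  refine ⟨f.comp (φ.codRestrict _ hφ), _, hxQ, ?_⟩
  have e2 : φ.codRestrict _ hφ ⟨MulAut.conj (⟨_, hx'⟩ : N), c.inner _ hxQ⟩ = ⟨x, hU⟩ := by
    refine Subtype.ext ?_
    show g * e.symm (MulAut.conj (⟨_, hx'⟩ : N)) * g⁻¹ = x
    rw [← he, e.symm_apply_apply]
    show g * (g⁻¹ * x * g⁻¹⁻¹) * g⁻¹ = x
    group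
  rw [MonoidHom.comp_apply, e2]
  exact hf

/-- the subgroup generated by the letters `k, …, 6` -/
def Wk (y : ℕ → Γ) (k : ℕ) : Subgroup Γ := closure (y '' {i | k ≤ i ∧ i < 7})

theorem mem_Wk (y : ℕ → Γ) {k i : ℕ} (h1 : k ≤ i) (h2 : i < 7) : y i ∈ Wk y k := subset_closure ⟨i, ⟨h1, h2⟩, rfl⟩

theorem Wk_succ (y : ℕ → Γ) {k : ℕ} (hk : k < 7) : Wk y k = zpowers (y k) ⊔ Wk y (k + 1) := by
  apply le_antisymm
  · rw [Wk, closure_le]
    rintro _ ⟨i, ⟨hi1, hi2⟩, rfl⟩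
    by_cases h : i = k
    · subst h
      exact (le_sup_left : zpowers (y i) ≤ _) (mem_zpowers _)
    · exact (le_sup_right : Wk y (k + 1) ≤ _) (mem_Wk y (by omega) hi2)
  · refine sup_le (zpowers_le.2 (mem_Wk y le_rfl hk)) (closure_mono (Set.image_mono fun i hi => ⟨?_, hi.2⟩))
    have := hi.1
    omega

theorem rel_Wk : ∀ i < 7, ∀ j < 7, i < j → (rels.any fun p => p.1 == [i, j] && (p.2 == p.2.dropLast ++ [i] &&
    p.2.dropLast.all fun l => Nat.ble (i + 1) l && Nat.blt l 7)) = true := by decide +kernel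

variable {y : ℕ → Γ} (hy : Sat y)

include hy

theorem conj_Wk {i : ℕ} (hi : i < 7) : ∀ k ∈ Wk y (i + 1), y i * k * (y i)⁻¹ ∈ Wk y (i + 1) := by
  apply conj_closure
  rintro _ ⟨j, ⟨hj1, hj2⟩, rfl⟩
  obtain ⟨p, hp, h⟩ := List.any_eq_true.1 (rel_Wk i hi j hj2 (by omega))
  rw [Bool.and_eq_true, Bool.and_eq_true, beq_iff_eq, beq_iff_eq, List.all_eq_true] at h
  have h4 := hy p hp
  rw [h.1, h.2.1] at h4
  simp only [List.map_cons, List.map_nil, List.map_append, List.prod_append, List.prod_cons, List.prod_nil,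
    mul_one] at h4
  rw [h4, mul_inv_cancel_right]
  refine list_prod_mem y _ fun l hl => ?_
  have h2 := h.2.2 l hl
  rw [Bool.and_eq_true, Nat.ble_eq, Nat.blt_eq] at h2
  exact mem_Wk y h2.1 h2.2

theorem Wk_card : ∀ m ≤ 7, ((Wk y (7 - m) : Subgroup Γ) : Set Γ).Finite ∧
    ((Wk y (7 - m) : Subgroup Γ) : Set Γ).ncard ≤ ∏ j ∈ Finset.range m, od (6 - j) := by
  intro m
  induction m with
  | zero =>
    intro _
    have h : Wk y (7 - 0) = ⊥ := by
      rw [Wk, closure_eq_bot_iff]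
      rintro _ ⟨i, ⟨h1, h2⟩, rfl⟩
      omega
    rw [h]
    simp
  | succ m ih =>
    intro hm
    have hk : 7 - (m + 1) < 7 := by omega
    have h2 : 7 - (m + 1) + 1 = 7 - m := by omega
    have h4 := card_sup_le (conj_zpowers (od_pos _) (pow_od hy (by omega)) (conj_Wk hy hk))
      (zpowers_card (od_pos _) (pow_od hy (by omega))) (b := ∏ j ∈ Finset.range m, od (6 - j))
      (by rw [h2]; exact ih (by omega))
    rw [Wk_succ y hk]
    refine ⟨h4.1, h4.2.trans ?_⟩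
    rw [Finset.prod_range_succ, mul_comm, show 7 - (m + 1) = 6 - m by omega]

theorem card_V' : Nat.card (V' y) ≤ 1024 := by
  have h := (Wk_card hy 7 le_rfl).2
  have h2 : ∏ j ∈ Finset.range 7, od (6 - j) = 1024 := by decide +kernel
  have h3 : Wk y (7 - 7) = V' y := by
    rw [Wk, V']
    congr 2
    ext i
    simp
  rwa [h2, h3] at h

/-- the linear character of order four -/
theorem exists_lin [Finite Γ] (hV : Nat.card (V y 0) = 4096) :
    ∃ f : V y 0 →* ℂˣ, ∀ v ∈ V' y, ∀ h : y 7 * v ∈ V y 0, f ⟨y 7 * v, h⟩ ^ 2 ≠ 1 := by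
  have h7 : y 7 ∈ V y 0 := mem_V y (by norm_num) (by norm_num)
  have hfac : ∀ g ∈ V y 0, ∃ x ∈ zpowers (y 7), ∃ k ∈ V' y, g = x * k := fun g hg =>
    mem_sup_fac (V'_norm hy) g (by rwa [← V_zero'])
  let N : Subgroup (V y 0) := (V' y).subgroupOf (V y 0)
  have hN : N.Normal := ⟨fun n hn g => by
    obtain ⟨x, hx, k, hk, e⟩ := hfac g g.2
    show (g : Γ) * n * (g : Γ)⁻¹ ∈ V' y
    have e1 : x * k * n * (x * k)⁻¹ = x * (k * n * k⁻¹) * x⁻¹ := by group
    rw [e, e1]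
    exact V'_norm hy x hx _ (mul_mem (mul_mem hk hn) (inv_mem hk))⟩
  let b : V y 0 ⧸ N := QuotientGroup.mk ⟨y 7, h7⟩
  have hb : ∀ q : V y 0 ⧸ N, q ∈ zpowers b := fun q => by
    obtain ⟨g, rfl⟩ := QuotientGroup.mk_surjective q
    obtain ⟨_, ⟨n, rfl⟩, k, hk, e⟩ := hfac g g.2
    refine ⟨n, ?_⟩
    show b ^ n = _
    rw [← QuotientGroup.mk_zpow, QuotientGroup.eq]
    show (y 7 ^ n)⁻¹ * (g : Γ) ∈ V' y
    rw [e]
    simpa using hk
  have hc : IsCyclic (V y 0 ⧸ N) := ⟨b, hb⟩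
  have hb2 : b ^ 2 ≠ 1 := by
    intro h
    have h1 : Nat.card (V y 0 ⧸ N) ≤ 2 := by
      rw [← orderOf_eq_card_of_forall_mem_zpowers hb]
      exact Nat.le_of_dvd (by norm_num) (orderOf_dvd_of_pow_eq_one h)
    have h2 : Nat.card N = Nat.card (V' y) := Nat.card_congr (subgroupOfEquivOfLe (V'_le y)).toEquiv
    have h3 := card_eq_card_quotient_mul_card_subgroup N
    have h4 := Nat.mul_le_mul h1 (card_V' hy)
    rw [← h2, ← h3, hV] at h4
    omega
  let _ := hc.commGroup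
  obtain ⟨φ, hφ⟩ := CommGroup.exists_apply_ne_one_of_hasEnoughRootsOfUnity (V y 0 ⧸ N) ℂ hb2
  refine ⟨φ.comp (QuotientGroup.mk' N), fun v hv h => ?_⟩
  have e : QuotientGroup.mk' N ⟨y 7 * v, h⟩ = b := by
    refine (QuotientGroup.eq.2 ?_).symm
    show (y 7)⁻¹ * (y 7 * v) ∈ V' y
    rwa [inv_mul_cancel_left]
  rw [MonoidHom.comp_apply, e, ← map_pow]
  exact hφ

end abs

open Cfsg.Agent.ChevalleyStructure.Tits.Main Cfsg.Agent.ChevalleyStructure.Tits.Order
  Cfsg.Agent.ChevalleyStructure.Tits.Final in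
theorem qb_T : QB ↥(commutator H0) := by
  have := Omega.TwoF.TitsAut.fin_H0
  have hinj : Function.Injective (MulAut.conjNormal : H0 →* MulAut (commutator H0)) :=
    Omega.TwoF.TitsAut.conj_injective Sat_yH gen_yH card_H0 card_V_yH (yH_ne_one (by norm_num))
      Omega.TwoF.TitsAut.yH7_sq core H0_result.2.2.1
  obtain ⟨f, hf⟩ := exists_lin Sat_yH card_V_yH
  obtain ⟨χ, h0, h1⟩ := H246.TitsComp.exists_chi
  have h2 : yH 7 * yH 5 ∈ V yH 0 := mul_mem (mem_V yH (by norm_num) (by norm_num)) (mem_V yH (by norm_num) (by norm_num))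
  refine qb_of_aut (commutator H0) ⟨hinj, H829.Sd.Tits.exists_conj⟩ H246.TitsComp.syl f h2 ?_
    (hf _ (mem_V' yH (by norm_num)) h2)
  rw [H246.TitsComp.mem_commutator_iff χ (h1 7 (by norm_num) rfl), map_mul, h1 7 (by norm_num) rfl,
    h1 5 (by norm_num) rfl]
  rfl

theorem perfect_of_simple {G : Type*} [Group G] (hs : IsSimpleGroup G) (hc : ¬ IsMulCommutative G) :
    commutator G = ⊤ :=
  ((inferInstance : (commutator G).Normal).eq_bot_or_eq_top).resolve_left fun h => hc ((commutator_eq_bot_iff G).1 h)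

set_option maxRecDepth 10000 in
theorem qb_tits {S : Type} [Group S] [Finite S] (h : Lie.IsoTits S) : QB S := by
  obtain ⟨K, hK, ⟨e⟩⟩ := Omega.TwoF.TitsAut.exists_equiv h
  subst hK
  have := Omega.TwoF.TitsAut.fin_H0
  have h1 := ChevalleyStructure.Tits.Main.H0_result
  exact Cv.qb_congr (perfect_of_simple h1.2.1 h1.2.2.1) e qb_T

/-- **`BoxB.tits`** -/
theorem titsB : RowB fun S _ => Lie.IsoTits S := Cv.plain_tits.rowB fun _ _ _ _ h => qb_tits h

theorem qa_comm {Γ : Type} [Group Γ] (K : Subgroup Γ) (h : QA ↥(commutator K)) {S : Type} [Group S]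
    (hS : Nonempty (S ≃* ↥(commutator K))) : QA S := by
  obtain ⟨e⟩ := hS
  exact Cv.qa_congr e h

/-- **`BoxA.tits`** from the Tits group -/
theorem titsA_of (h : QA Lie.TitsGroup) : RowA fun S _ => Lie.IsoTits S :=
  Cv.plain_tits.rowA fun _ _ _ _ hS => qa_comm (Lie.twistedF4 (ZMod 2) 1) h hS

end Cfsg.Agent.ODD.Spor
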