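import Cfsg.Agent.ODD.Cov.Basic
import Cfsg.Agent.ODD.Alt.Rat
import Cfsg.Agent.TAB.Use.Defs
import Cfsg.Agent.H161.RowReeJ1
import Cfsg.Agent.S2034
import Cfsg.Agent.S2035
import Cfsg.Agent.S2037
import Cfsg.Agent.S2038
import Cfsg.Agent.S2040
import Cfsg.Agent.S2042
import Cfsg.Agent.S2043
import Cfsg.Agent.S2044
import Cfsg.Agent.S2045
import Cfsg.Agent.S2046
import Cfsg.Agent.S2049
import Cfsg.Agent.S2050
import Cfsg.Agent.S2051
import Cfsg.Agent.S2052
import Cfsg.Agent.S2053
import Cfsg.Agent.S2054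
import Cfsg.Agent.S2055
import Cfsg.Agent.S2056
import Cfsg.Agent.S2057
import Cfsg.Agent.S2058
import Cfsg.Agent.S2059

/-!
# ODD: the sporadic row from the tables (helper86, task 278)

`SporIn` : what the tables deliver; `spor_of : SporIn → RowO IsSporadicGroup`.
-/

set_option autoImplicit false

namespace Cfsg.Agent.ODD.Spor

open Cfsg Cfsg.Spor Subgroup Cfsg.Agent.ODD.Cv
open Cfsg.Agent.TAB.Use (AllRat OddRatCov)

section

variable {K : Fam} {X : Type} [Group X] [Finite X] {G : Type} [Group G]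

/-- no odd cover -/
theorem odd_of_two (c : Cov K X) (e : Nonempty (X ⧸ center X ≃* G)) {k : ℕ} (hm : HasCyclicSchurMultiplier G (2 ^ k))
    (h : TAB.Use.OddRat G) : OddRat X := by
  obtain ⟨e⟩ := e
  exact oddRat_congr ((eqv (center_eq_bot c ((MB.of_cyc hm).congr e))).trans e) h

/-- all characters are `2`-rational -/
theorem odd_of_all (c : Cov K X) (e : Nonempty (X ⧸ center X ≃* G)) (h : AllRat G) : OddRat X := by
  obtain ⟨e⟩ := e
  have : Finite G := Finite.of_equiv _ e.toEquiv
  intro θ hθ _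
  refine (Alt.AllR.congr e h).cover (QuotientGroup.mk' (center X)) (QuotientGroup.mk'_surjective _) ?_ ?_ θ hθ
  · rw [QuotientGroup.ker_mk']
  · rw [QuotientGroup.ker_mk']
    exact c.odd

/-- a triple cover -/
theorem odd_of_three (c : Cov K X) (e : Nonempty (X ⧸ center X ≃* G)) {n : ℕ} (hm : HasCyclicSchurMultiplier G n)
    (hn : n ∣ 6) (h : TAB.Use.OddRat G) (h' : OddRatCov G) : OddRat X := by
  obtain ⟨e⟩ := e
  have h1 := (card_center_dvd c ((MB.of_cyc hm).congr e)).trans hn
  have h2 : Nat.card (center X) ∣ 3 :=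
    (Nat.coprime_two_right.2 c.odd).dvd_of_dvd_mul_left (show Nat.card (center X) ∣ 2 * 3 from h1)
  rcases (Nat.dvd_prime Nat.prime_three).1 h2 with h3 | h3
  · exact oddRat_congr ((eqv (card_eq_one.1 h3)).trans e) h
  · have h4 : (e.toMonoidHom.comp (QuotientGroup.mk' (center X))).ker = center X := by
      ext x
      simp
    exact h' X (e.toMonoidHom.comp (QuotientGroup.mk' (center X)))
      (e.surjective.comp (QuotientGroup.mk'_surjective _)) h4.le (by rw [h4, h3]) (perfect c)

end

/-- `J₁` has no elements of order four -/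
theorem allRat_j1 : AllRat J1 := by
  have : Fact (Nat.Prime 2) := ⟨Nat.prime_two⟩
  refine Alt.allR_of_sq fun x hx => ?_
  have h1 : IsPGroup 2 (zpowers x) := by
    have h3 : orderOf x ∣ 2 ^ 2 := orderOf_dvd_of_pow_eq_one hx
    obtain ⟨k, -, hk⟩ := (Nat.dvd_prime_pow Nat.prime_two).1 h3
    exact IsPGroup.of_card (n := k) (by rw [Nat.card_zpowers, hk])
  obtain ⟨S, hS⟩ := h1.exists_le_sylow
  exact H161.RowReeJ1.j1_sq S x (hS (mem_zpowers x))

/-- **What the tables deliver** (`J₁` needs nothing). -/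
structure SporIn : Prop where
  m11 : TAB.Use.OddRat M11
  m12 : TAB.Use.OddRat M12
  m22 : AllRat M22
  m23 : TAB.Use.OddRat M23
  m24 : TAB.Use.OddRat M24
  j2 : TAB.Use.OddRat J2
  j3 : ∀ (F : Type) [Field F] [Fintype F] (ω : F), Fintype.card F = 4 → ω ^ 2 + ω + 1 = 0 → AllRat (J3 F ω)
  j4 : TAB.Use.OddRat J4
  co1 : TAB.Use.OddRat Co1
  co2 : TAB.Use.OddRat Co2
  co3 : TAB.Use.OddRat Co3
  mcl : AllRat McL
  hs : TAB.Use.OddRat HS
  suz : AllRat Suz
  he : TAB.Use.OddRat He
  ru : TAB.Use.OddRat Ru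
  on : TAB.Use.OddRat ON
  on3 : OddRatCov ON
  ly : TAB.Use.OddRat Ly
  fi22 : TAB.Use.OddRat Fi22
  fi223 : OddRatCov Fi22
  fi23 : TAB.Use.OddRat Fi23
  fi24 : TAB.Use.OddRat Fi24'
  fi243 : OddRatCov Fi24'
  hn : TAB.Use.OddRat HN
  th : TAB.Use.OddRat Th
  b : TAB.Use.OddRat BabyMonster
  m : TAB.Use.OddRat Monster

/-- **`BoxO.spor` from the tables.** -/
theorem spor_of (h : SporIn) : RowO fun S _ => IsSporadicGroup S := by
  intro X _ _ c
  rcases c.fam with e | e | e | e | e | e | e | ⟨F, _, _, ω, hF, hω, e⟩ | e | e | e | e | e | e | e | e | e | e | e | e |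
    e | e | e | e | e | e
  · exact odd_of_two c e (k := 0) S2034.result h.m11
  · exact odd_of_two c e (k := 1) S2035.result h.m12
  · exact odd_of_all c e h.m22
  · exact odd_of_two c e (k := 0) S2037.result h.m23
  · exact odd_of_two c e (k := 0) S2038.result h.m24
  · exact odd_of_all c e allRat_j1
  · exact odd_of_two c e (k := 1) S2040.result h.j2
  · exact odd_of_all c e (h.j3 F ω hF hω)
  · exact odd_of_two c e (k := 0) S2042.result h.j4
  · exact odd_of_two c e (k := 1) S2043.result h.co1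
  · exact odd_of_two c e (k := 0) S2044.result h.co2
  · exact odd_of_two c e (k := 0) S2045.result h.co3
  · exact odd_of_all c e h.mcl
  · exact odd_of_two c e (k := 1) S2046.result h.hs
  · exact odd_of_all c e h.suz
  · exact odd_of_two c e (k := 0) S2049.result h.he
  · exact odd_of_two c e (k := 1) S2051.result h.ru
  · exact odd_of_three c e S2052.result (by norm_num) h.on h.on3
  · exact odd_of_two c e (k := 0) S2050.result h.ly
  · exact odd_of_three c e S2053.result (by norm_num) h.fi22 h.fi223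
  · exact odd_of_two c e (k := 0) S2054.result h.fi23
  · exact odd_of_three c e S2055.result (by norm_num) h.fi24 h.fi243
  · exact odd_of_two c e (k := 0) S2056.result h.hn
  · exact odd_of_two c e (k := 0) S2057.result h.th
  · exact odd_of_two c e (k := 1) S2058.result h.b
  · exact odd_of_two c e (k := 0) S2059.result h.m

end Cfsg.Agent.ODD.Spor
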