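import Cfsg.Agent.ODD.Spor.Row
import Cfsg.Agent.H55.JThreeOut
import Cfsg.Agent.TAB.Sm2.M11
import Cfsg.Agent.TAB.Sm2.M12
import Cfsg.Agent.TAB.Sm2.M22
import Cfsg.Agent.TAB.Sm2.M23
import Cfsg.Agent.TAB.Sm2.M24
import Cfsg.Agent.TAB.J2.Main
import Cfsg.Agent.TAB.J3.Main
import Cfsg.Agent.TAB.J4.Main
import Cfsg.Agent.TAB.Co1.Main
import Cfsg.Agent.TAB.Co2.Main
import Cfsg.Agent.TAB.Co3.Main
import Cfsg.Agent.TAB.McL.Main
import Cfsg.Agent.TAB.HS.Main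
import Cfsg.Agent.TAB.Suz.Main
import Cfsg.Agent.TAB.He.Main
import Cfsg.Agent.TAB.Ru.Main
import Cfsg.Agent.TAB.ON.Cov
import Cfsg.Agent.TAB.Ly.Main
import Cfsg.Agent.TAB.F22.Cov
import Cfsg.Agent.TAB.F23C.Main
import Cfsg.Agent.TAB.F24.Cov
import Cfsg.Agent.TAB.HN.Main
import Cfsg.Agent.TAB.Th.Main
import Cfsg.Agent.TAB.B.Fin.Main
import Cfsg.Agent.TAB.M.Main

/-!
# ODD: the sporadic row from the group side of the table of `Fi24'` (helper86, task 278)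
-/

set_option autoImplicit false

namespace Cfsg.Agent.ODD.Spor

open Cfsg Cfsg.Agent.TAB

theorem sporIn_of (h : F24.In0) : SporIn where
  m11 := Sm2.M11.odd
  m12 := Sm2.M12.odd
  m22 := Sm2.M22.all
  m23 := Sm2.M23.odd
  m24 := Sm2.M24.odd
  j2 := TAB.J2.odd
  j3 := fun _ _ _ _ hF hw => TAB.J3.odd (H55.JThree.isoJ3 hF hw)
  j4 := TAB.J4.odd
  co1 := TAB.Co1.odd
  co2 := TAB.Co2.odd
  co3 := TAB.Co3.odd
  mcl := TAB.McL.allRat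
  hs := TAB.HS.odd
  suz := TAB.Suz.odd
  he := TAB.He.odd
  ru := TAB.Ru.odd
  on := TAB.ON.odd
  on3 := TAB.ON.oddCov
  ly := TAB.Ly.odd
  fi22 := F22.odd
  fi223 := F22.cov
  fi23 := F23C.odd
  fi24 := F24.odd_of h
  fi243 := F24.cov_of h
  hn := TAB.HN.odd
  th := TAB.Th.odd
  b := TAB.B.Fin.odd
  m := TAB.M.odd

end Cfsg.Agent.ODD.Spor
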